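import Groth.Agent.Alg6.Closed
import Groth.Agent.Alg6.LocLoc
import Groth.Agent.Alg6.Sections
import Mathlib

/-!
# Hartogs: sections extend across points of depth at least two
-/

universe u

open AlgebraicGeometry CategoryTheory TopologicalSpace Opposite

namespace Groth.Agent.Hartogs

/-- Affine case. -/
theorem spec_bijective (A : Type u) [CommRing A] [IsNoetherianRing A] (O : (Spec (CommRingCat.of A)).Opens)
    (h : ∀ p : PrimeSpectrum A, p ∉ O →
      (2 : ℕ∞) ≤ LocCoh.depth (Localization.AtPrime p.asIdeal) (Localization.AtPrime p.asIdeal)) :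
    Function.Bijective ((Spec (CommRingCat.of A)).presheaf.map (homOfLE (le_top : O ≤ ⊤)).op) := by
  let Z : Set (PrimeSpectrum A) := {p | p ∉ O}
  have hZc : IsClosed Z := isClosed_compl_iff.2 O.isOpen
  have hJ : PrimeSpectrum.zeroLocus (PrimeSpectrum.vanishingIdeal Z : Set A) = Z := by
    rw [PrimeSpectrum.zeroLocus_vanishingIdeal_eq_closure, hZc.closure_eq]
  have hclosed : EGA4.IsClosedAlong Z A := by
    rw [Alg6.isClosedAlong_iff hZc.stableUnderSpecialization]
    intro p hp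
    exact h p hp
  have hbij := hclosed (PrimeSpectrum.vanishingIdeal Z) hJ.le
  have hO : EGA4.openCompl A (PrimeSpectrum.vanishingIdeal Z) = O := by
    refine TopologicalSpace.Opens.ext ?_
    show (PrimeSpectrum.zeroLocus (PrimeSpectrum.vanishingIdeal Z : Set A))ᶜ = _
    rw [hJ]
    exact compl_compl _
  have key : ∀ O' : (Spec (CommRingCat.of A)).Opens, O' = O →
      Function.Bijective ((Spec (CommRingCat.of A)).presheaf.map (homOfLE (le_top : O' ≤ ⊤)).op) →
      Function.Bijective ((Spec (CommRingCat.of A)).presheaf.map (homOfLE (le_top : O ≤ ⊤)).op) := by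
    rintro _ rfl h'
    exact h'
  exact key _ hO hbij

variable {X : Scheme.{u}} [IsLocallyNoetherian X]

/-- The stalk at a point of an affine open has the depth of the localisation. -/
theorem depth_stalk_eq {V : X.Opens} (hV : IsAffineOpen V) (x : X) (hx : x ∈ V) :
    LocCoh.depth (Localization.AtPrime (hV.primeIdealOf ⟨x, hx⟩).asIdeal)
        (Localization.AtPrime (hV.primeIdealOf ⟨x, hx⟩).asIdeal) =
      LocCoh.depth (X.presheaf.stalk x) (X.presheaf.stalk x) := by
  letI := TopCat.Presheaf.algebra_section_stalk X.presheaf ⟨x, hx⟩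
  haveI : IsLocalization.AtPrime (X.presheaf.stalk x) (hV.primeIdealOf ⟨x, hx⟩).asIdeal :=
    hV.isLocalization_stalk ⟨x, hx⟩
  let σ := IsLocalization.algEquiv (hV.primeIdealOf ⟨x, hx⟩).asIdeal.primeCompl
    (Localization.AtPrime (hV.primeIdealOf ⟨x, hx⟩).asIdeal) (X.presheaf.stalk x)
  exact Alg6.depth_eq_of_semilinear σ.toRingEquiv.toRingHom σ.surjective σ.toRingEquiv.toAddEquiv
    (fun r z => map_mul σ r z)

/-- Restriction from an affine open is bijective. -/
theorem affine_bijective (U : X.Opens)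
    (hU : ∀ x : X, x ∉ U → (2 : ℕ∞) ≤ LocCoh.depth (X.presheaf.stalk x) (X.presheaf.stalk x))
    {V : X.Opens} (hV : IsAffineOpen V) :
    Function.Bijective (X.presheaf.map (homOfLE (inf_le_left : V ⊓ U ≤ V)).op) := by
  haveI : IsNoetherianRing Γ(X, V) := IsLocallyNoetherian.component_noetherian ⟨V, hV⟩
  have hsq := hV.fromSpec.naturality (homOfLE (inf_le_left : V ⊓ U ≤ V)).op
  have i1 : IsIso (hV.fromSpec.app V) := hV.fromSpec.isIso_app V (by rw [hV.opensRange_fromSpec])
  have i2 : IsIso (hV.fromSpec.app (V ⊓ U)) :=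
    hV.fromSpec.isIso_app (V ⊓ U) (by rw [hV.opensRange_fromSpec]; exact inf_le_left)
  have htop : hV.fromSpec ⁻¹ᵁ V = ⊤ := hV.fromSpec_preimage_self
  have hbij : Function.Bijective ((Spec Γ(X, V)).presheaf.map
      ((TopologicalSpace.Opens.map hV.fromSpec.base).op.map (homOfLE (inf_le_left : V ⊓ U ≤ V)).op)) := by
    have hspec := spec_bijective Γ(X, V) (hV.fromSpec ⁻¹ᵁ (V ⊓ U)) fun p hp => by
      have hxV : hV.fromSpec p ∈ V := by rw [← SetLike.mem_coe, ← hV.range_fromSpec]; exact ⟨p, rfl⟩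
      have hxU : hV.fromSpec p ∉ U := fun h => hp ⟨hxV, h⟩
      have hp' : hV.primeIdealOf ⟨hV.fromSpec p, hxV⟩ = p :=
        hV.fromSpec.isOpenEmbedding.injective (hV.fromSpec_primeIdealOf ⟨hV.fromSpec p, hxV⟩)
      have hd := (hU _ hxU).trans (depth_stalk_eq hV _ hxV).ge
      rwa [hp'] at hd
    have e : (homOfLE (le_top : hV.fromSpec ⁻¹ᵁ (V ⊓ U) ≤ ⊤)).op =
        (eqToHom htop).op ≫ (TopologicalSpace.Opens.map hV.fromSpec.base).op.map (homOfLE (inf_le_left : V ⊓ U ≤ V)).op :=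
      Subsingleton.elim _ _
    change Function.Bijective ((Spec Γ(X, V)).presheaf.map _) at hspec
    rw [e, Functor.map_comp] at hspec
    exact (Function.Bijective.of_comp_iff _ (ConcreteCategory.bijective_of_isIso ((Spec Γ(X, V)).presheaf.map (eqToHom htop).op))).1 hspec
  have b1 := ConcreteCategory.bijective_of_isIso (hV.fromSpec.app V)
  have b2 := ConcreteCategory.bijective_of_isIso (hV.fromSpec.app (V ⊓ U))
  refine (Function.Bijective.of_comp_iff' b2 _).1 ?_
  have e : (hV.fromSpec.app (V ⊓ U) : Γ(X, V ⊓ U) → _) ∘ X.presheaf.map (homOfLE (inf_le_left : V ⊓ U ≤ V)).op =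
      (Spec Γ(X, V)).presheaf.map ((TopologicalSpace.Opens.map hV.fromSpec.base).op.map (homOfLE (inf_le_left : V ⊓ U ≤ V)).op) ∘
        (hV.fromSpec.app V : Γ(X, V) → _) := funext fun s => ConcreteCategory.congr_hom hsq s
  rw [e]
  exact hbij.comp b1

/-- Hartogs: restriction `Γ(X, W) → Γ(X, W ∩ U)` is bijective if all points outside `U` have depth
at least two. -/
theorem restrict_bijective (U : X.Opens)
    (hU : ∀ x : X, x ∉ U → (2 : ℕ∞) ≤ LocCoh.depth (X.presheaf.stalk x) (X.presheaf.stalk x)) (W : X.Opens) :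
    Function.Bijective (X.presheaf.map (homOfLE (inf_le_left : W ⊓ U ≤ W)).op) := by
  have sep : ∀ (W : X.Opens) (s t : Γ(X, W)),
      X.presheaf.map (homOfLE (inf_le_left : W ⊓ U ≤ W)).op s = X.presheaf.map (homOfLE (inf_le_left : W ⊓ U ≤ W)).op t →
        s = t := by
    intro W s t hst
    refine X.sheaf.eq_of_locally_eq' (fun V : {V : X.affineOpens // (V : X.Opens) ≤ W} => (V.1 : X.Opens)) W
      (fun V => homOfLE V.2) (fun x hx => ?_) s t fun V => ?_
    · obtain ⟨V, hV, hxV, hVW⟩ := exists_isAffineOpen_mem_and_subset hx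
      exact Opens.mem_iSup.2 ⟨⟨⟨V, hV⟩, hVW⟩, hxV⟩
    · refine (affine_bijective U hU V.1.2).1 ?_
      show X.presheaf.map _ (X.presheaf.map (homOfLE V.2).op s) = X.presheaf.map _ (X.presheaf.map (homOfLE V.2).op t)
      rw [← ConcreteCategory.comp_apply, ← ConcreteCategory.comp_apply, ← X.presheaf.map_comp,
        Subsingleton.elim ((homOfLE V.2).op ≫ (homOfLE (inf_le_left : (V.1 : X.Opens) ⊓ U ≤ _)).op)
          ((homOfLE (inf_le_left : W ⊓ U ≤ W)).op ≫ (homOfLE (inf_le_inf_right U V.2)).op),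
        X.presheaf.map_comp, ConcreteCategory.comp_apply, ConcreteCategory.comp_apply, hst]
  refine ⟨fun s t h => sep W s t h, fun s => ?_⟩
  let ι := {V : X.affineOpens // (V : X.Opens) ≤ W}
  choose g hg using fun V : ι => (affine_bijective U hU V.1.2).2
    (X.presheaf.map (homOfLE (inf_le_inf_right U V.2)).op s)
  have hcompat : TopCat.Presheaf.IsCompatible X.sheaf.presheaf (fun V : ι => (V.1 : X.Opens)) g := by
    intro V V'
    refine sep _ _ _ ?_
    show X.presheaf.map _ (X.presheaf.map _ (g V)) = X.presheaf.map _ (X.presheaf.map _ (g V'))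
    have key : ∀ (V : ι) (O : X.Opens) (hO : O ≤ V.1) (hO' : O ≤ U) ,
        X.presheaf.map (homOfLE hO).op (g V) = X.presheaf.map (homOfLE (le_inf (hO.trans V.2) hO')).op s := by
      intro V O hO hO'
      rw [Subsingleton.elim (homOfLE hO).op ((homOfLE (inf_le_left : (V.1 : X.Opens) ⊓ U ≤ _)).op ≫ (homOfLE (le_inf hO hO')).op),
        X.presheaf.map_comp, ConcreteCategory.comp_apply, hg, ← ConcreteCategory.comp_apply, ← X.presheaf.map_comp]
      rfl
    rw [← ConcreteCategory.comp_apply, ← ConcreteCategory.comp_apply, ← X.presheaf.map_comp, ← X.presheaf.map_comp]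
    exact (key V _ (inf_le_left.trans inf_le_left) inf_le_right).trans
      (key V' _ (inf_le_left.trans inf_le_right) inf_le_right).symm
  have hcover : W ≤ iSup (fun V : ι => (V.1 : X.Opens)) := fun x hx => by
    obtain ⟨V, hV, hxV, hVW⟩ := exists_isAffineOpen_mem_and_subset hx
    exact Opens.mem_iSup.2 ⟨⟨⟨V, hV⟩, hVW⟩, hxV⟩
  obtain ⟨t, ht, -⟩ := X.sheaf.existsUnique_gluing' (fun V : ι => (V.1 : X.Opens)) W (fun V => homOfLE V.2) hcover g hcompat
  refine ⟨t, X.sheaf.eq_of_locally_eq' (fun V : ι => (V.1 : X.Opens) ⊓ U) (W ⊓ U)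
    (fun V => homOfLE (inf_le_inf_right U V.2)) (fun x hx => ?_) _ _ fun V => ?_⟩
  · obtain ⟨V, hxV⟩ := Opens.mem_iSup.1 (hcover hx.1)
    exact Opens.mem_iSup.2 ⟨V, hxV, hx.2⟩
  · show X.presheaf.map _ (X.presheaf.map _ t) = X.presheaf.map _ s
    refine Eq.trans ?_ (hg V)
    have key2 : ∀ t' : Γ(X, W), X.presheaf.map (homOfLE (inf_le_inf_right U V.2)).op
          (X.presheaf.map (homOfLE (inf_le_left : W ⊓ U ≤ W)).op t') =
        X.presheaf.map (homOfLE (inf_le_left : (V.1 : X.Opens) ⊓ U ≤ _)).op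
          (X.presheaf.map (homOfLE V.2).op t') := fun t' => by
      rw [← ConcreteCategory.comp_apply, ← ConcreteCategory.comp_apply, ← X.presheaf.map_comp, ← X.presheaf.map_comp]
      rfl
    exact (key2 t).trans (congrArg _ (ht V))

/-- Morphisms to affine schemes extend uniquely. -/
theorem existsUnique_extension (U : X.Opens)
    (hU : ∀ x : X, x ∉ U → (2 : ℕ∞) ≤ LocCoh.depth (X.presheaf.stalk x) (X.presheaf.stalk x))
    {Y : Scheme.{u}} [IsAffine Y] (f : (U : Scheme.{u}) ⟶ Y) : ∃! g : X ⟶ Y, U.ι ≫ g = f := by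
  haveI : IsIso U.ι.appTop := by
    rw [ConcreteCategory.isIso_iff_bijective, Scheme.Opens.ι_appTop]
    let e := homOfLE (le_inf le_top U.ι_image_top.le : U.ι ''ᵁ ⊤ ≤ ⊤ ⊓ U)
    haveI : IsIso e := by
      have h : U.ι ''ᵁ ⊤ = ⊤ ⊓ U := U.ι_image_top.trans (top_inf_eq U).symm
      rw [Subsingleton.elim e (eqToHom h)]
      infer_instance
    have h2 := ConcreteCategory.bijective_of_isIso (X.presheaf.map e.op)
    have h1 := restrict_bijective U hU ⊤
    have h12 := h2.comp h1
    have e4 : ∀ a : Γ(X, ⊤), X.presheaf.map (homOfLE (le_top : U.ι ''ᵁ ⊤ ≤ ⊤)).op a =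
        X.presheaf.map e.op (X.presheaf.map (homOfLE (inf_le_left : (⊤ : X.Opens) ⊓ U ≤ ⊤)).op a) := fun a => by
      rw [← ConcreteCategory.comp_apply, ← X.presheaf.map_comp]
      rfl
    constructor
    · intro a b hab
      exact h12.1 ((e4 a).symm.trans (hab.trans (e4 b)))
    · intro c
      obtain ⟨a, ha⟩ := h12.2 c
      exact ⟨a, (e4 a).trans ha⟩
  refine ⟨X.toSpecΓ ≫ Spec.map (f.appTop ≫ inv U.ι.appTop) ≫ Y.isoSpec.inv, ?_, fun g hg => ?_⟩
  · show U.ι ≫ X.toSpecΓ ≫ Spec.map (f.appTop ≫ inv U.ι.appTop) ≫ Y.isoSpec.inv = f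
    rw [Scheme.toSpecΓ_naturality_assoc, ← Spec.map_comp_assoc, Category.assoc, IsIso.inv_hom_id, Category.comp_id,
      ← Scheme.toSpecΓ_naturality_assoc]
    show f ≫ Y.isoSpec.hom ≫ Y.isoSpec.inv = f
    rw [Iso.hom_inv_id, Category.comp_id]
  · refine ext_of_isAffine ((cancel_mono U.ι.appTop).1 ?_)
    rw [← Scheme.Hom.comp_appTop, ← Scheme.Hom.comp_appTop, hg]
    congr 1
    rw [Scheme.toSpecΓ_naturality_assoc, ← Spec.map_comp_assoc, Category.assoc, IsIso.inv_hom_id, Category.comp_id,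
      ← Scheme.toSpecΓ_naturality_assoc]
    show f = f ≫ Y.isoSpec.hom ≫ Y.isoSpec.inv
    rw [Iso.hom_inv_id, Category.comp_id]

end Groth.Agent.Hartogs
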